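import Cfsg.Agent.Lib.Compute.Bit24.LatticeModTwo
import Cfsg.Agent.Lib.Leech.SimpleCo1
import Cfsg.Agent.Lib.Leech.ModTwo
import Cfsg.Prelude.Def_Spor_Conway
import Cfsg.Prelude.Def_KGroupFacts

/-! `Co0` acts on the lattice modulo two with kernel its centre, and covers `Spor.Co1`. -/

set_option autoImplicit false

namespace Cfsg.Agent.Lib.Compute.Bit24

open Cfsg
open Cfsg.Agent.Lib

attribute [local irreducible] encA toAutHom

theorem center_le_ker : Subgroup.center Co0 ≤ toAutHom.ker := by
  intro z hz
  rcases Lib.Leech.center_cases hz with rfl | rfl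
  · exact one_mem _
  · refine MonoidHom.mem_ker.2 (LinearEquiv.ext fun v => ?_)
    obtain ⟨x, rfl⟩ := phi_surjective v
    have h : toAutHom Lib.Leech.negCo (phi x) = phi (Lib.Leech.negCo • x) := by
      unfold toAutHom
      exact linMap_phi _ x
    rw [h, Lib.Leech.negCo_smul, map_neg]
    funext k
    show -(phi x k) = phi x k
    generalize phi x k = t
    revert t
    decide

theorem exists_equiv_co1 {g : Co0} (hg : toAutHom g ≠ 1) :
    Nonempty (Spor.Co1 ≃* toAutHom.range) := by
  haveI := Lib.Leech.isSimpleGroup_quot_center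
  let f : Spor.Co1 →* toAutHom.range :=
    QuotientGroup.lift (Subgroup.center Co0) toAutHom.rangeRestrict (by
      rw [MonoidHom.ker_rangeRestrict]; exact center_le_ker)
  have hs : Function.Surjective f := fun y => by
    obtain ⟨x, hx⟩ := toAutHom.rangeRestrict_surjective y
    exact ⟨QuotientGroup.mk x, hx⟩
  have hinj : Function.Injective f := by
    rw [← MonoidHom.ker_eq_bot_iff]
    rcases f.normal_ker.eq_bot_or_eq_top with h | h
    · exact h
    · have h1 : f (QuotientGroup.mk' (Subgroup.center Co0) g) = 1 :=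
        MonoidHom.mem_ker.1 (by rw [h]; trivial)
      exact absurd (congrArg Subtype.val h1) hg
  exact ⟨MulEquiv.ofBijective f ⟨hinj, hs⟩⟩

theorem negCo_mem_commutator : Lib.Leech.negCo ∈ commutator Co0 := by
  haveI := Lib.Leech.finite_co0
  haveI hs := Lib.Leech.isSimpleGroup_quot_center
  let π := QuotientGroup.mk' (Subgroup.center Co0)
  have htop : (commutator Co0).map π = ⊤ := by
    rw [_root_.commutator_def, Subgroup.map_commutator, ← MonoidHom.range_eq_map,
      MonoidHom.range_eq_top.2 (QuotientGroup.mk'_surjective _)]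
    refine (Subgroup.commutator_normal (⊤ : Subgroup (Co0 ⧸ Subgroup.center Co0)) ⊤).eq_bot_or_eq_top
      |>.resolve_left fun hb => ?_
    rw [Subgroup.commutator_eq_bot_iff_le_centralizer] at hb
    haveI : IsMulCommutative (Co0 ⧸ Subgroup.center Co0) := ⟨⟨fun a b =>
      (Subgroup.mem_centralizer_iff.1 (hb (Subgroup.mem_top b))) a (Subgroup.mem_top a)⟩⟩
    letI : CommGroup (Co0 ⧸ Subgroup.center Co0) :=
      { (inferInstance : Group _) with
        mul_comm := fun a b => (Subgroup.mem_centralizer_iff.1 (hb (Subgroup.mem_top b))) a (Subgroup.mem_top a) }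
    have hp := IsSimpleGroup.prime_card (α := Co0 ⧸ Subgroup.center Co0)
    rw [Lib.Leech.card_quot_center] at hp
    norm_num at hp
  obtain ⟨g, hg⟩ := Lib.Leech.exists_sq_negCo
  obtain ⟨k, hk, hkg⟩ := Subgroup.mem_map.1 (htop ▸ Subgroup.mem_top (π g))
  rcases Lib.Leech.eq_or_eq_neg hkg.symm with h | h
  · rw [← hg, h]; exact mul_mem hk hk
  · have : Lib.Leech.negCo * k = k * Lib.Leech.negCo :=
      (Subgroup.mem_center_iff.1 Lib.Leech.negCo_mem_center k).symm
    rw [← hg, h, mul_assoc, ← mul_assoc k, ← this, mul_assoc Lib.Leech.negCo k k, ← mul_assoc,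
      Lib.Leech.negCo_sq, one_mul]
    exact mul_mem hk hk

theorem isStemExtension_co0 :
    Cfsg.IsStemExtension (QuotientGroup.mk' (Subgroup.center Co0) : Co0 →* Spor.Co1) := by
  refine ⟨QuotientGroup.mk'_surjective _, by rw [QuotientGroup.ker_mk'], ?_⟩
  rw [QuotientGroup.ker_mk']
  intro z hz
  rcases Lib.Leech.center_cases hz with rfl | rfl
  · exact one_mem _
  · exact negCo_mem_commutator

end Cfsg.Agent.Lib.Compute.Bit24
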