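import Cfsg.Agent.Lib.Compute.Bit24.Co1SchurP2Data

/-! Generated: multiplier certificate for Co1 at 2, part Co1SchurP2Eqn1. -/

set_option autoImplicit false
set_option maxRecDepth 100000
set_option Elab.async false

namespace Cfsg.Agent.Lib.Compute.Bit24

open Cfsg.Agent.Lib.Compute.Schur Cfsg.Agent.Lib.J3Mult58

theorem co1Schur2_eqns1 : co1Schur2Eq1.all (eqnCheckW bitOps (slpVal co1El) co1Schur2.R co1Schur2.X) = true := by decide +kernel

end Cfsg.Agent.Lib.Compute.Bit24
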