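import Cfsg.Agent.Lib.Compute.Schur.PackJoin
import Cfsg.Agent.Lib.Compute.Bit24.Co1SchurP2Data

/-! Generated: multiplier certificate for Co1 at 2, linear part. -/

set_option autoImplicit false
set_option maxRecDepth 100000
set_option Elab.async false

namespace Cfsg.Agent.Lib.Compute.Bit24

open Cfsg.Agent.Lib.Compute.Schur Cfsg.Agent.Lib.J3Mult58

theorem co1Schur2_pack0 : packCheck (co1Schur2Eq0.map Prod.snd) ((co1Schur2ZR.drop 0).take 40) = true := by
  decide +kernel

theorem co1Schur2_pack1 : packCheck (co1Schur2Eq1.map Prod.snd) ((co1Schur2ZR.drop 40).take 40) = true := by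
  decide +kernel

theorem co1Schur2_pack2 : packCheck (co1Schur2Eq2.map Prod.snd) ((co1Schur2ZR.drop 80).take 40) = true := by
  decide +kernel

theorem co1Schur2_pack3 : packCheck (co1Schur2Eq3.map Prod.snd) ((co1Schur2ZR.drop 120).take 40) = true := by
  decide +kernel

theorem co1Schur2_pack4 : packCheck (co1Schur2Eq4.map Prod.snd) ((co1Schur2ZR.drop 160).take 40) = true := by
  decide +kernel

theorem co1Schur2_pack5 : packCheck (co1Schur2Eq5.map Prod.snd) ((co1Schur2ZR.drop 200).take 12) = true := by
  decide +kernel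

theorem co1Schur2_packJoin : intListEq (((co1Schur2ZR.drop 0).take 40) ++
    ((co1Schur2ZR.drop 40).take 40) ++
    ((co1Schur2ZR.drop 80).take 40) ++
    ((co1Schur2ZR.drop 120).take 40) ++
    ((co1Schur2ZR.drop 160).take 40) ++
    ((co1Schur2ZR.drop 200).take 12)) co1Schur2ZR = true := by
  decide +kernel

theorem co1Schur2_pack : packCheck (co1Schur2.eqns.map Prod.snd) co1Schur2ZR = true := by
  show packCheck (co1Schur2Eq.map Prod.snd) co1Schur2ZR = true
  rw [← intListEq_eq co1Schur2_packJoin]
  simp only [co1Schur2Eq, List.map_append]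
  exact packCheck_append (packCheck_append (packCheck_append (packCheck_append (packCheck_append co1Schur2_pack0
    co1Schur2_pack1) co1Schur2_pack2) co1Schur2_pack3) co1Schur2_pack4) co1Schur2_pack5

end Cfsg.Agent.Lib.Compute.Bit24
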