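import Cfsg.Agent.Lib.Compute.Schur.PackJoin
import Cfsg.Agent.Lib.Compute.Bit24.Co1SchurP2Data

/-! Generated: multiplier certificate for Co1 at 2, linear part. -/

set_option autoImplicit false
set_option maxRecDepth 100000
set_option Elab.async false

namespace Cfsg.Agent.Lib.Compute.Bit24

open Cfsg.Agent.Lib.Compute.Schur Cfsg.Agent.Lib.J3Mult58

theorem co1Schur2_units : unitsOK co1Schur2ZR co1Schur2ZL co1Schur2.T 0 co1Schur2.units = true := by
  decide +kernel

end Cfsg.Agent.Lib.Compute.Bit24
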