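import Cfsg.Agent.Lib.Compute.Schur.PackJoin
import Cfsg.Agent.Lib.Compute.Bit24.Co1SchurP2Data
import Cfsg.Agent.Lib.Compute.Bit24.Co1SchurP2Pack
import Cfsg.Agent.Lib.Compute.Bit24.Co1SchurP2Unit

/-! Generated: multiplier certificate for Co1 at 2, linear part. -/

set_option autoImplicit false
set_option maxRecDepth 100000
set_option Elab.async false

namespace Cfsg.Agent.Lib.Compute.Bit24

open Cfsg.Agent.Lib.Compute.Schur Cfsg.Agent.Lib.J3Mult58

theorem co1Schur2_head :
    (Nat.beq co1Schur2.L.length co1Schur2.R.k &&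
      Nat.beq co1Schur2.units.length (rulePairs co1Schur2.R.k).length && Nat.blt 0 co1Schur2.r) = true := by
  decide +kernel

theorem co1Schur2_packL : packCheck co1Schur2.L co1Schur2ZL = true := by decide +kernel

theorem co1Schur2_smallT : smallCheck vEnt co1Schur2.T = true := by decide +kernel

theorem co1Schur2_deg : degCheck co1Schur2 = true := by decide +kernel

theorem co1Schur2_rT :
    eqV (combo co1Schur2.rT (co1Schur2.eqns.map Prod.snd)) (smulV (co1Schur2.r : ℤ) co1Schur2.T) = true := by
  decide +kernel

theorem co1Schur2_lin : linCheck co1Schur2 = true :=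
  linCheck_of_fastLin (fastLin_of_parts co1Schur2_head co1Schur2_pack co1Schur2_packL co1Schur2_smallT
    co1Schur2_units co1Schur2_rT co1Schur2_deg)

end Cfsg.Agent.Lib.Compute.Bit24
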