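import Cfsg.Agent.Lib.Compute.Bit24.Co1SchurP2Data
import Cfsg.Agent.Lib.Compute.Bit24.Co1SchurP2Pres
import Cfsg.Agent.Lib.Compute.Bit24.Co1SchurP2Eqn0
import Cfsg.Agent.Lib.Compute.Bit24.Co1SchurP2Eqn1
import Cfsg.Agent.Lib.Compute.Bit24.Co1SchurP2Eqn2
import Cfsg.Agent.Lib.Compute.Bit24.Co1SchurP2Eqn3
import Cfsg.Agent.Lib.Compute.Bit24.Co1SchurP2Eqn4
import Cfsg.Agent.Lib.Compute.Bit24.Co1SchurP2Eqn5
import Cfsg.Agent.Lib.Compute.Bit24.Co1SchurP2Lin

/-! Generated: multiplier certificate for Co1 at 2, part Co1SchurP2. -/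

set_option autoImplicit false
set_option maxRecDepth 100000
set_option Elab.async false

namespace Cfsg.Agent.Lib.Compute.Bit24

open Cfsg.Agent.Lib.Compute.Schur Cfsg.Agent.Lib.J3Mult58

theorem co1Schur2_eqns : eqnsCheckW bitOps (slpVal co1El) co1Schur2 = true := by
  show co1Schur2Eq.all (eqnCheckW bitOps (slpVal co1El) co1Schur2.R co1Schur2.X) = true
  simp only [co1Schur2Eq, List.all_append, co1Schur2_eqns0, co1Schur2_eqns1, co1Schur2_eqns2, co1Schur2_eqns3, co1Schur2_eqns4, co1Schur2_eqns5, Bool.and_self]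

theorem co1Schur2_ok : certCheckW bitOps (slpVal co1El) 4157776806543360000 co1Schur2 = true := by
  simp only [certCheckW, co1Schur2_pres, co1Schur2_eqns, co1Schur2_lin, Bool.and_self]

end Cfsg.Agent.Lib.Compute.Bit24
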