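import Cfsg.Agent.Lib.Compute.Bit24.LatticeModTwo

/-!
Elements of the action of `Co0` on the lattice modulo two, given by a straight-line program: base
elements are words, later ones are products of earlier ones.
-/

set_option autoImplicit false

namespace Cfsg.Agent.Lib.Compute.Bit24

open Cfsg

/-- Letter `a` of a list of pairs: pair `a / 2`, turned round for odd `a`. -/
noncomputable def slpLetter (El : List (ℕ × ℕ)) (a : ℕ) : ℕ × ℕ :=
  match El[a / 2]? with
  | none => (oneC, oneC)
  | some p => bif Nat.beq (a % 2) 0 then p else (p.2, p.1)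

/-- Value of a word in the listed pairs. -/
noncomputable def slpVal (El : List (ℕ × ℕ)) : List ℕ → ℕ × ℕ
  | [] => (oneC, oneC)
  | a :: w =>
    match slpLetter El a, slpVal El w with
    | p, q => (mulC p.1 q.1, mulC q.2 p.2)

/-- Each entry is given by a word, or by a word in earlier entries. -/
noncomputable def slpCheck (El : List (ℕ × ℕ)) (base : List (List Compute.Leech.Letter × List Compute.Leech.Letter))
    (defs : List (List ℕ)) : Bool :=
  (List.range El.length).all fun i =>
    forceNat (El.getD i (0, 0)).1 fun c => forceNat (El.getD i (0, 0)).2 fun c' =>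
      bif Nat.blt i base.length then
        codeOK (base.getD i ([], [])).1 c && codeOK (base.getD i ([], [])).2 c' &&
          Nat.beq (mulC c c') oneC
      else
        ((defs.getD (i - base.length) []).all fun a => Nat.blt (a / 2) i) &&
          Nat.beq (slpVal El (defs.getD (i - base.length) [])).1 c &&
          Nat.beq (slpVal El (defs.getD (i - base.length) [])).2 c'

theorem pairOK_slpVal {H : Subgroup Aut24} {El : List (ℕ × ℕ)} :
    ∀ {w : List ℕ}, (∀ a ∈ w, PairOK bitCoding H (slpLetter El a)) → PairOK bitCoding H (slpVal El w) := by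
  intro w
  induction w with
  | nil => intro _; exact PairOK.one bitCoding H
  | cons a w ih =>
    intro h
    exact PairOK.mul bitCoding (h a (List.mem_cons_self ..)) (ih fun b hb => h b (List.mem_cons_of_mem _ hb))

theorem pairOK_slpLetter {H : Subgroup Aut24} {El : List (ℕ × ℕ)} {a : ℕ}
    (h : ∀ p, El[a / 2]? = some p → PairOK bitCoding H p) : PairOK bitCoding H (slpLetter El a) := by
  unfold slpLetter
  split
  · exact PairOK.one bitCoding H
  next p hp =>
    obtain ⟨g, hg, h1, h2⟩ := h p hp
    cases hb : Nat.beq (a % 2) 0 with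
    | true => exact ⟨g, hg, h1, h2⟩
    | false => exact ⟨g⁻¹, inv_mem hg, h2, by rw [inv_inv]; exact h1⟩

attribute [local irreducible] encA mulC toAutHom codeOK

theorem pairOK_of_slpCheck {El : List (ℕ × ℕ)}
    {base : List (List Compute.Leech.Letter × List Compute.Leech.Letter)} {defs : List (List ℕ)}
    (h : slpCheck El base defs = true) :
    ∀ (i : ℕ) (p : ℕ × ℕ), El[i]? = some p → PairOK bitCoding toAutHom.range p := by
  intro i
  induction i using Nat.strong_induction_on with
  | _ i ih =>
    intro p hp
    obtain ⟨hi, rfl⟩ := List.getElem?_eq_some_iff.1 hp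
    have hc := List.all_eq_true.1 h i (List.mem_range.2 hi)
    simp only [forceNat_eq, List.getD_eq_getElem _ _ hi] at hc
    cases hb : Nat.blt i base.length with
    | true =>
      rw [hb, cond_true] at hc
      simp only [Bool.and_eq_true] at hc
      obtain ⟨⟨h1, h2⟩, hm⟩ := hc
      obtain ⟨g, hg, -⟩ := exists_of_codeOK h1
      obtain ⟨g', hg', -⟩ := exists_of_codeOK h2
      have hinv : toAutHom g * toAutHom g' = 1 := bitCoding.inj (by
        rw [bitCoding_enc, bitCoding_enc, ← mulC_encA, hg, hg', encA_one]
        exact Nat.eq_of_beq_eq_true hm)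
      refine ⟨toAutHom g, ⟨g, rfl⟩, by rw [bitCoding_enc]; exact hg, ?_⟩
      rw [inv_eq_of_mul_eq_one_right hinv, bitCoding_enc]
      exact hg'
    | false =>
      rw [hb, cond_false] at hc
      simp only [Bool.and_eq_true, List.all_eq_true, Nat.blt_eq] at hc
      obtain ⟨⟨hlt, h1⟩, h2⟩ := hc
      have := pairOK_slpVal (H := toAutHom.range) (El := El) fun a ha =>
        pairOK_slpLetter fun p hp => ih (a / 2) (hlt a ha) p hp
      rwa [← Prod.ext (Nat.eq_of_beq_eq_true h1) (Nat.eq_of_beq_eq_true h2)]

theorem pairOK_slpWord {El : List (ℕ × ℕ)}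
    {base : List (List Compute.Leech.Letter × List Compute.Leech.Letter)} {defs : List (List ℕ)}
    (h : slpCheck El base defs = true) (w : List ℕ) :
    PairOK bitCoding toAutHom.range (slpVal El w) :=
  pairOK_slpVal fun a _ => pairOK_slpLetter fun p hp => pairOK_of_slpCheck h (a / 2) p hp

end Cfsg.Agent.Lib.Compute.Bit24
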