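import Cfsg.Agent.Lib.Compute.Bit24.Coding
import Cfsg.Agent.Lib.Compute.Bit24.Co2Chain

/-! Kernel check of the chain for the stabiliser of a minimal vector. -/

set_option autoImplicit false
set_option maxRecDepth 100000

namespace Cfsg.Agent.Lib.Compute.Bit24

theorem co2Chain_ok : chainCheck bitOps co2Gens co2Chain = true := by decide +kernel

theorem co2Chain_size : chainSize co2Chain = 42305421312000 := by decide +kernel

end Cfsg.Agent.Lib.Compute.Bit24
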