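import Cfsg.Agent.Lib.Compute.Bit24.LatticeModTwo
import Cfsg.Agent.Lib.Compute.Bit24.Co2ChainOk
import Cfsg.Agent.Lib.Leech.SporConway

/-! The stabiliser of a minimal vector as a certified group of 24 by 24 binary matrices. -/

set_option autoImplicit false
set_option maxRecDepth 100000

namespace Cfsg.Agent.Lib.Compute.Bit24

open Cfsg
open Cfsg.Agent.Lib
open Cfsg.Agent.Lib.Compute.Leech (vecOf evalWord listEq)

/-- Words fix the vector and give the listed generators with their inverses. -/
noncomputable def genCheck (i : ℕ) : Bool :=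
  match co2Words[i]?, co2Gens[i]? with
  | some w, some p =>
    codeOK w.1 p.1 && codeOK w.2 p.2 && Nat.beq (mulC p.1 p.2) oneC &&
      listEq (evalWord w.1 fixedU) fixedU
  | _, _ => false

theorem genCheck_all : ((List.range co2Gens.length).all genCheck) = true := by decide +kernel

theorem vecOf_fixedU : vecOf fixedU = Spor.vecU := by decide +kernel

theorem gen_nontrivial : Nat.beq (co2Gens.getD 0 (0, 0)).1 oneC = false := by decide +kernel

/-- The action of the stabiliser on the lattice modulo two. -/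
noncomputable def co2Hom : MulAction.stabilizer Co0 Spor.leechU →* Aut24 :=
  toAutHom.comp (MulAction.stabilizer Co0 Spor.leechU).subtype

theorem co2Hom_apply (g : MulAction.stabilizer Co0 Spor.leechU) : co2Hom g = toAutHom (g : Co0) := rfl

attribute [local irreducible] encA mulC toAutHom evalWord codeOK

theorem exists_gen {p : ℕ × ℕ} (hp : p ∈ co2Gens) :
    ∃ g : MulAction.stabilizer Co0 Spor.leechU,
      bitCoding.enc (co2Hom g) = p.1 ∧ bitCoding.enc (co2Hom g)⁻¹ = p.2 := by
  obtain ⟨i, hi, rfl⟩ := List.getElem_of_mem hp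
  have h := List.all_eq_true.1 genCheck_all i (List.mem_range.2 hi)
  simp only [genCheck, List.getElem?_eq_getElem hi] at h
  cases hw : co2Words[i]? with
  | none => simp [hw] at h
  | some w =>
    simp only [hw, Bool.and_eq_true] at h
    obtain ⟨⟨⟨h1, h2⟩, hm⟩, hf⟩ := h
    obtain ⟨g, hg, hgv⟩ := exists_of_codeOK h1
    obtain ⟨g', hg', -⟩ := exists_of_codeOK h2
    have hfix : g • Spor.leechU = Spor.leechU := Subtype.ext (by
      rw [hgv fixedU Spor.leechU vecOf_fixedU.symm, Compute.Leech.listEq_eq hf, vecOf_fixedU]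
      rfl)
    refine ⟨⟨g, hfix⟩, by rw [co2Hom_apply, bitCoding_enc]; exact hg, ?_⟩
    have hinv : toAutHom g * toAutHom g' = 1 := bitCoding.inj (by
      rw [bitCoding_enc, bitCoding_enc, ← mulC_encA, hg, hg', encA_one]
      exact Nat.eq_of_beq_eq_true hm)
    rw [co2Hom_apply, inv_eq_of_mul_eq_one_right hinv, bitCoding_enc]
    exact hg'

theorem gensOK_co2 : GensOK bitCoding co2Gens := fun _ hp => by
  obtain ⟨g, h1, h2⟩ := exists_gen hp
  exact ⟨co2Hom g, trivial, h1, h2⟩

theorem co2Hom_injective : Function.Injective co2Hom := by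
  haveI := Lib.Leech.finite_co0
  haveI hs : IsSimpleGroup Spor.Co2 := Lib.Leech.isSimpleGroup_Co2
  haveI : Nontrivial (MulAction.stabilizer Co0 Spor.leechU) :=
    Lib.Leech.co2Equiv.symm.toEquiv.nontrivial
  haveI : IsSimpleGroup (MulAction.stabilizer Co0 Spor.leechU) :=
    IsSimpleGroup.isSimpleGroup_of_surjective Lib.Leech.co2Equiv.toMonoidHom Lib.Leech.co2Equiv.surjective
  rw [← MonoidHom.ker_eq_bot_iff]
  rcases co2Hom.normal_ker.eq_bot_or_eq_top with h | h
  · exact h
  · exfalso
    have hmem : co2Gens.getD 0 (0, 0) ∈ co2Gens := by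
      rw [List.getD_eq_getElem _ _ (by decide +kernel)]
      exact List.getElem_mem _
    obtain ⟨g, hg, -⟩ := exists_gen hmem
    have h1 : co2Hom g = 1 := MonoidHom.mem_ker.1 (h ▸ Subgroup.mem_top g)
    rw [h1, bitCoding_enc, encA_one] at hg
    have := gen_nontrivial
    rw [← hg] at this
    simp at this

theorem exists_equiv_co2 : Nonempty (↥Spor.Co2 ≃* genGroup bitCoding co2Gens) := by
  haveI := Lib.Leech.finite_co0
  have hle : genGroup bitCoding co2Gens ≤ co2Hom.range := by
    refine (Subgroup.closure_le _).2 ?_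
    rintro a ⟨p, hp, ha⟩
    obtain ⟨g, hg, -⟩ := exists_gen hp
    exact ⟨g, bitCoding.inj (hg.trans ha.symm)⟩
  have hcard : Nat.card co2Hom.range = Nat.card (genGroup bitCoding co2Gens) := by
    rw [card_genGroup bitCoding gensOK_co2 co2Chain_ok, co2Chain_size,
      Nat.card_congr (MonoidHom.ofInjective co2Hom_injective).symm.toEquiv,
      ← Nat.card_congr Lib.Leech.co2Equiv.toEquiv, Lib.Leech.card_Co2]
  have heq : genGroup bitCoding co2Gens = co2Hom.range :=
    Subgroup.eq_of_le_of_card_ge hle hcard.le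
  exact ⟨(Lib.Leech.co2Equiv.trans (MonoidHom.ofInjective co2Hom_injective)).trans
    (MulEquiv.subgroupCongr heq.symm)⟩

end Cfsg.Agent.Lib.Compute.Bit24
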