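import Cfsg.Agent.Lib.Compute.Perm

/-!
# Coding of the linear group of the 24-dimensional space over the field with two elements

A linear map is coded by the images of the 24 unit vectors, 24 bits each, packed in one number. The
product takes one shift, mask and multiplication for each unit vector.
-/

set_option autoImplicit false

namespace Cfsg.Agent.Lib.Compute.Bit24

/-- The space. -/
abbrev V24 : Type := Fin 24 → ZMod 2

/-- Its automorphism group. -/
abbrev Aut24 : Type := V24 ≃ₗ[ZMod 2] V24

/-- The lowest bit of each of the 24 rows. -/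
def rowsMask : ℕ := 0x1000001000001000001000001000001000001000001000001000001000001000001000001000001000001000001000001000001000001000001000001000001000001000001

/-- The code of the identity. -/
def oneC : ℕ := 0x800000400000200000100000080000040000020000010000008000004000002000001000000800000400000200000100000080000040000020000010000008000004000002000001

/-- Combination of the rows of `a` selected by the bits of `b` under the mask `m`. -/
noncomputable def combM (m a b : ℕ) : ℕ :=
  forceNat a fun a => forceNat b fun b =>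
    Nat.xor (Nat.xor (Nat.xor (Nat.xor (Nat.xor (Nat.xor (Nat.xor (Nat.xor (Nat.xor (Nat.xor (Nat.xor (Nat.xor (Nat.xor (Nat.xor (Nat.xor (Nat.xor (Nat.xor (Nat.xor (Nat.xor (Nat.xor (Nat.xor (Nat.xor (Nat.xor (Nat.xor (0)
      (Nat.mul (Nat.land (Nat.shiftRight b 0) m) (Nat.land (Nat.shiftRight a 0) 16777215)))
      (Nat.mul (Nat.land (Nat.shiftRight b 1) m) (Nat.land (Nat.shiftRight a 24) 16777215)))
      (Nat.mul (Nat.land (Nat.shiftRight b 2) m) (Nat.land (Nat.shiftRight a 48) 16777215)))
      (Nat.mul (Nat.land (Nat.shiftRight b 3) m) (Nat.land (Nat.shiftRight a 72) 16777215)))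
      (Nat.mul (Nat.land (Nat.shiftRight b 4) m) (Nat.land (Nat.shiftRight a 96) 16777215)))
      (Nat.mul (Nat.land (Nat.shiftRight b 5) m) (Nat.land (Nat.shiftRight a 120) 16777215)))
      (Nat.mul (Nat.land (Nat.shiftRight b 6) m) (Nat.land (Nat.shiftRight a 144) 16777215)))
      (Nat.mul (Nat.land (Nat.shiftRight b 7) m) (Nat.land (Nat.shiftRight a 168) 16777215)))
      (Nat.mul (Nat.land (Nat.shiftRight b 8) m) (Nat.land (Nat.shiftRight a 192) 16777215)))
      (Nat.mul (Nat.land (Nat.shiftRight b 9) m) (Nat.land (Nat.shiftRight a 216) 16777215)))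
      (Nat.mul (Nat.land (Nat.shiftRight b 10) m) (Nat.land (Nat.shiftRight a 240) 16777215)))
      (Nat.mul (Nat.land (Nat.shiftRight b 11) m) (Nat.land (Nat.shiftRight a 264) 16777215)))
      (Nat.mul (Nat.land (Nat.shiftRight b 12) m) (Nat.land (Nat.shiftRight a 288) 16777215)))
      (Nat.mul (Nat.land (Nat.shiftRight b 13) m) (Nat.land (Nat.shiftRight a 312) 16777215)))
      (Nat.mul (Nat.land (Nat.shiftRight b 14) m) (Nat.land (Nat.shiftRight a 336) 16777215)))
      (Nat.mul (Nat.land (Nat.shiftRight b 15) m) (Nat.land (Nat.shiftRight a 360) 16777215)))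
      (Nat.mul (Nat.land (Nat.shiftRight b 16) m) (Nat.land (Nat.shiftRight a 384) 16777215)))
      (Nat.mul (Nat.land (Nat.shiftRight b 17) m) (Nat.land (Nat.shiftRight a 408) 16777215)))
      (Nat.mul (Nat.land (Nat.shiftRight b 18) m) (Nat.land (Nat.shiftRight a 432) 16777215)))
      (Nat.mul (Nat.land (Nat.shiftRight b 19) m) (Nat.land (Nat.shiftRight a 456) 16777215)))
      (Nat.mul (Nat.land (Nat.shiftRight b 20) m) (Nat.land (Nat.shiftRight a 480) 16777215)))
      (Nat.mul (Nat.land (Nat.shiftRight b 21) m) (Nat.land (Nat.shiftRight a 504) 16777215)))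
      (Nat.mul (Nat.land (Nat.shiftRight b 22) m) (Nat.land (Nat.shiftRight a 528) 16777215)))
      (Nat.mul (Nat.land (Nat.shiftRight b 23) m) (Nat.land (Nat.shiftRight a 552) 16777215))

/-- Image of a vector. -/
noncomputable def mulV (a x : ℕ) : ℕ := combM 1 a x

/-- Product of maps. -/
noncomputable def mulC (a b : ℕ) : ℕ := combM rowsMask a b

/-- Action, fixing everything outside the space. -/
noncomputable def actC (a x : ℕ) : ℕ :=
  Bool.rec (motive := fun _ => ℕ) x (mulV a x) (Nat.blt x 16777216)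

/-- The operations. -/
noncomputable def bitOps : Ops where
  mul := mulC
  one := oneC
  act := actC

/-- Bitwise sum of the first `n` values. -/
def xorUpTo (f : ℕ → ℕ) : ℕ → ℕ
  | 0 => 0
  | n + 1 => xorUpTo f n ^^^ f n

theorem combM_eq (m a b : ℕ) :
    combM m a b = xorUpTo (fun k => ((b >>> k) &&& m) * getP 24 a k) 24 := by
  simp only [combM, xorUpTo, forceNat_eq]
  rfl

theorem testBit_packP {w : ℕ} {f : ℕ → ℕ} {n : ℕ} (hf : ∀ i < n, f i < 2 ^ w) {i l : ℕ}
    (hi : i < n) (hl : l < w) : (packP w f n).testBit (w * i + l) = (f i).testBit l := by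
  have h : (getP w (packP w f n) i).testBit l = (f i).testBit l := by rw [getP_packP hf hi]
  rw [getP_eq, Nat.testBit_mod_two_pow, decide_eq_true hl, Bool.true_and,
    Nat.testBit_div_two_pow] at h
  rwa [Nat.add_comm]

theorem testBit_getP (c i : ℕ) {k : ℕ} (hk : k < 24) :
    (getP 24 c i).testBit k = c.testBit (24 * i + k) := by
  rw [getP_eq, Nat.testBit_mod_two_pow, decide_eq_true hk, Bool.true_and,
    Nat.testBit_div_two_pow, Nat.add_comm]

theorem eq_of_getP {a b : ℕ} (ha : a < 2 ^ (24 * 24)) (hb : b < 2 ^ (24 * 24))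
    (h : ∀ i < 24, getP 24 a i = getP 24 b i) : a = b := by
  refine Nat.eq_of_testBit_eq fun j => ?_
  by_cases hj : j < 24 * 24
  · have := congrArg (fun x => x.testBit (j % 24)) (h (j / 24) (by omega))
    simp only [testBit_getP _ _ (Nat.mod_lt j (show 24 > 0 by norm_num))] at this
    rwa [Nat.div_add_mod] at this
  · have hle : 2 ^ (24 * 24) ≤ 2 ^ j := Nat.pow_le_pow_right (by norm_num) (not_lt.1 hj)
    rw [Nat.testBit_eq_false_of_lt (lt_of_lt_of_le ha hle),
      Nat.testBit_eq_false_of_lt (lt_of_lt_of_le hb hle)]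

theorem rowsMask_eq : rowsMask = packP 24 (fun _ => 1) 24 := by decide +kernel

theorem oneC_eq : oneC = packP 24 (fun i => 2 ^ i) 24 := by decide +kernel

theorem toNat_lt (p : Bool) : p.toNat < 2 ^ 24 := by cases p <;> norm_num

theorem shift_land_mask (b : ℕ) {k : ℕ} (hk : k < 24) :
    (b >>> k) &&& rowsMask = packP 24 (fun i => (b.testBit (24 * i + k)).toNat) 24 := by
  have hm : rowsMask < 2 ^ (24 * 24) := by rw [rowsMask_eq]; exact packP_lt fun _ _ => by norm_num
  refine eq_of_getP (lt_of_le_of_lt Nat.and_le_right hm) (packP_lt fun i _ => toNat_lt _) fun i hi => ?_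
  rw [getP_packP (fun i _ => toNat_lt _) hi]
  refine Nat.eq_of_testBit_eq fun l => ?_
  by_cases hl : l < 24
  · rw [testBit_getP _ _ hl, Nat.testBit_and, Nat.testBit_shiftRight, rowsMask_eq,
      testBit_packP (fun _ _ => by norm_num) hi hl]
    by_cases hl0 : l = 0
    · subst hl0
      simp [Nat.add_comm k]
      cases b.testBit (24 * i + k) <;> simp
    · have h1 : (1 : ℕ).testBit l = false := Nat.testBit_eq_false_of_lt (Nat.one_lt_two_pow hl0)
      have h2 : ((b.testBit (24 * i + k)).toNat).testBit l = false := by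
        cases b.testBit (24 * i + k) <;> simp [h1]
      rw [h1, h2, Bool.and_false]
  · have hle : (2 : ℕ) ^ 24 ≤ 2 ^ l := Nat.pow_le_pow_right (by norm_num) (not_lt.1 hl)
    rw [Nat.testBit_eq_false_of_lt (lt_of_lt_of_le (by rw [getP_eq]; exact Nat.mod_lt _ (by norm_num)) hle),
      Nat.testBit_eq_false_of_lt (lt_of_lt_of_le (toNat_lt _) hle)]

theorem packP_mul (f : ℕ → ℕ) (r : ℕ) : ∀ n, packP 24 f n * r = packP 24 (fun i => f i * r) n
  | 0 => by simp [packP]
  | n + 1 => by rw [packP_succ, packP_succ, ← packP_mul f r n]; ring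

theorem getP_xor (a b i : ℕ) : getP 24 (a ^^^ b) i = getP 24 a i ^^^ getP 24 b i := by
  simp only [getP_eq, ← Nat.shiftRight_eq_div_pow, Nat.shiftRight_xor_distrib, Nat.xor_mod_two_pow]

theorem xorUpTo_lt {f : ℕ → ℕ} {w : ℕ} : ∀ {n : ℕ}, (∀ k < n, f k < 2 ^ w) → xorUpTo f n < 2 ^ w
  | 0, _ => Nat.two_pow_pos w
  | n + 1, h => Nat.xor_lt_two_pow (xorUpTo_lt fun k hk => h k (by omega)) (h n (by omega))

theorem getP_xorUpTo (f : ℕ → ℕ) (i : ℕ) :
    ∀ n, getP 24 (xorUpTo f n) i = xorUpTo (fun k => getP 24 (f k) i) n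
  | 0 => by simp [xorUpTo, getP_eq]
  | n + 1 => by rw [xorUpTo, xorUpTo, getP_xor, getP_xorUpTo f i n]

theorem xorUpTo_congr {f g : ℕ → ℕ} : ∀ {n : ℕ}, (∀ k < n, f k = g k) → xorUpTo f n = xorUpTo g n
  | 0, _ => rfl
  | n + 1, h => by
    rw [xorUpTo, xorUpTo, xorUpTo_congr fun k hk => h k (by omega), h n (by omega)]

theorem land_one (x k : ℕ) : (x >>> k) &&& 1 = (x.testBit k).toNat := by
  rw [Nat.shiftRight_eq_div_pow, Nat.and_one_is_mod, Nat.testBit_eq_decide_div_mod_eq]
  rcases Nat.mod_two_eq_zero_or_one (x / 2 ^ k) with h | h <;> simp [h]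

theorem getP_lt' (c i : ℕ) : getP 24 c i < 2 ^ 24 := by
  rw [getP_eq]; exact Nat.mod_lt _ (by norm_num)

theorem toNat_mul_lt (p : Bool) (c i : ℕ) : p.toNat * getP 24 c i < 2 ^ 24 := by
  cases p <;> simp only [Bool.toNat_true, Bool.toNat_false, one_mul, zero_mul]
  · norm_num
  · exact getP_lt' _ _

theorem mulV_eq (a x : ℕ) :
    mulV a x = xorUpTo (fun k => (x.testBit k).toNat * getP 24 a k) 24 := by
  rw [mulV, combM_eq]
  exact xorUpTo_congr fun k _ => by rw [land_one]

theorem mulV_lt (a x : ℕ) : mulV a x < 2 ^ 24 := by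
  rw [mulV_eq]; exact xorUpTo_lt fun k _ => toNat_mul_lt _ _ _

theorem mulC_eq (a b : ℕ) : mulC a b = packP 24 (fun i => mulV a (getP 24 b i)) 24 := by
  have hterm : ∀ k < 24, ((b >>> k) &&& rowsMask) * getP 24 a k =
      packP 24 (fun i => (b.testBit (24 * i + k)).toNat * getP 24 a k) 24 := fun k hk => by
    rw [shift_land_mask b hk, packP_mul]
  rw [mulC, combM_eq, xorUpTo_congr hterm]
  refine eq_of_getP (xorUpTo_lt fun k _ => packP_lt fun i _ => toNat_mul_lt _ _ _)
    (packP_lt fun i _ => mulV_lt _ _) fun i hi => ?_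
  rw [getP_xorUpTo, getP_packP (fun i _ => mulV_lt _ _) hi, mulV_eq]
  exact xorUpTo_congr fun k hk => by
    rw [getP_packP (fun i _ => toNat_mul_lt _ _ _) hi, testBit_getP _ _ hk]

theorem xorUpTo_xor (f g : ℕ → ℕ) :
    ∀ n, xorUpTo (fun k => f k ^^^ g k) n = xorUpTo f n ^^^ xorUpTo g n
  | 0 => by simp [xorUpTo]
  | n + 1 => by rw [xorUpTo, xorUpTo, xorUpTo, xorUpTo_xor f g n]; ac_rfl

theorem mulV_xor (a x y : ℕ) : mulV a (x ^^^ y) = mulV a x ^^^ mulV a y := by
  simp only [mulV_eq, ← xorUpTo_xor]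
  refine xorUpTo_congr fun k _ => ?_
  rw [Nat.testBit_xor]
  cases x.testBit k <;> cases y.testBit k <;> simp

theorem mulV_zero (a : ℕ) : mulV a 0 = 0 := by
  simpa using mulV_xor a 0 0

theorem xorUpTo_single (r : ℕ → ℕ) (i : ℕ) :
    ∀ n, xorUpTo (fun k => (decide (i = k)).toNat * r k) n = if i < n then r i else 0
  | 0 => by simp [xorUpTo]
  | n + 1 => by
    rw [xorUpTo, xorUpTo_single r i n]
    rcases lt_trichotomy i n with h | h | h
    · simp [h, show i < n + 1 by omega, show i ≠ n by omega]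
    · subst h; simp
    · simp [show ¬ i < n by omega, show ¬ i < n + 1 by omega, show i ≠ n by omega]

theorem mulV_two_pow (a : ℕ) {i : ℕ} (hi : i < 24) : mulV a (2 ^ i) = getP 24 a i := by
  rw [mulV_eq, xorUpTo_congr (g := fun k => (decide (i = k)).toNat * getP 24 a k) fun k _ => by
    rw [Nat.testBit_two_pow], xorUpTo_single, if_pos hi]

/-- The number of a vector. -/
def toN (v : V24) : ℕ := Nat.ofBits fun i => decide (v i = 1)

/-- The vector of a number. -/
def ofN (x : ℕ) : V24 := fun i => if x.testBit i then 1 else 0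

theorem testBit_toN (v : V24) {i : ℕ} (hi : i < 24) :
    (toN v).testBit i = decide (v ⟨i, hi⟩ = 1) := Nat.testBit_ofBits_lt _ _ hi

theorem toN_lt (v : V24) : toN v < 2 ^ 24 := Nat.ofBits_lt_two_pow _

theorem eq_of_bits {x y : ℕ} (hx : x < 2 ^ 24) (hy : y < 2 ^ 24)
    (h : ∀ i < 24, x.testBit i = y.testBit i) : x = y := by
  refine Nat.eq_of_testBit_eq fun j => ?_
  by_cases hj : j < 24
  · exact h j hj
  · have hle : (2 : ℕ) ^ 24 ≤ 2 ^ j := Nat.pow_le_pow_right (by norm_num) (not_lt.1 hj)
    rw [Nat.testBit_eq_false_of_lt (lt_of_lt_of_le hx hle),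
      Nat.testBit_eq_false_of_lt (lt_of_lt_of_le hy hle)]

theorem toN_add (v w : V24) : toN (v + w) = toN v ^^^ toN w := by
  refine eq_of_bits (toN_lt _) (Nat.xor_lt_two_pow (toN_lt _) (toN_lt _)) fun i hi => ?_
  rw [Nat.testBit_xor, testBit_toN _ hi, testBit_toN _ hi, testBit_toN _ hi, Pi.add_apply]
  generalize v ⟨i, hi⟩ = p
  generalize w ⟨i, hi⟩ = q
  revert p q; decide

theorem toN_zero : toN (0 : V24) = 0 := by
  refine eq_of_bits (toN_lt _) (by norm_num) fun i hi => ?_
  rw [testBit_toN _ hi]; simp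

theorem toN_single (i : Fin 24) : toN (Pi.single i 1) = 2 ^ (i : ℕ) := by
  refine eq_of_bits (toN_lt _) (Nat.pow_lt_pow_right (by norm_num) i.isLt) fun j hj => ?_
  rw [testBit_toN _ hj, Nat.testBit_two_pow]
  by_cases h : (i : ℕ) = j
  · subst h; simp
  · have : (⟨j, hj⟩ : Fin 24) ≠ i := fun e => h (congrArg Fin.val e).symm
    simp [h, this]

theorem ofN_toN (v : V24) : ofN (toN v) = v := by
  funext i
  simp only [ofN, testBit_toN v i.isLt, Fin.eta]
  generalize v i = p
  revert p; decide

theorem toN_injective : Function.Injective toN := Function.LeftInverse.injective ofN_toN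

theorem toN_ofN {x : ℕ} (hx : x < 2 ^ 24) : toN (ofN x) = x := by
  refine eq_of_bits (toN_lt _) hx fun i hi => ?_
  rw [testBit_toN _ hi]
  simp only [ofN]
  by_cases h : x.testBit i = true <;> simp [h]

/-- The code of a map given on unit vectors. -/
noncomputable def encF (F : Fin 24 → V24) : ℕ :=
  packP 24 (fun i => if h : i < 24 then toN (F ⟨i, h⟩) else 0) 24

theorem encF_bound (F : Fin 24 → V24) :
    ∀ i < 24, (if h : i < 24 then toN (F ⟨i, h⟩) else 0) < 2 ^ 24 :=
  fun i hi => by rw [dif_pos hi]; exact toN_lt _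

theorem getP_encF (F : Fin 24 → V24) {i : ℕ} (hi : i < 24) :
    getP 24 (encF F) i = toN (F ⟨i, hi⟩) := by
  rw [encF, getP_packP (encF_bound F) hi, dif_pos hi]

/-- The code of an automorphism. -/
noncomputable def encA (g : Aut24) : ℕ := encF fun i => g (Pi.single i 1)

theorem mulV_encA (g : Aut24) (v : V24) : mulV (encA g) (toN v) = toN (g v) := by
  have hs : ∀ (i : Fin 24) (c : ZMod 2),
      mulV (encA g) (toN (Pi.single i c)) = toN (g (Pi.single i c)) := by
    intro i c
    have h2 : ∀ d : ZMod 2, d = 0 ∨ d = 1 := by decide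
    rcases h2 c with rfl | rfl
    · rw [Pi.single_zero, map_zero, toN_zero, mulV_zero]
    · rw [toN_single, mulV_two_pow _ i.isLt, encA, getP_encF _ i.isLt]
  rw [← Finset.univ_sum_single v, map_sum]
  induction (Finset.univ : Finset (Fin 24)) using Finset.induction_on with
  | empty => rw [Finset.sum_empty, Finset.sum_empty, toN_zero, mulV_zero]
  | insert a s ha ih =>
    rw [Finset.sum_insert ha, Finset.sum_insert ha, toN_add, toN_add, mulV_xor, hs, ih]

theorem encA_injective : Function.Injective encA := fun g h e =>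
  LinearEquiv.ext fun v => toN_injective (by rw [← mulV_encA, e, mulV_encA])

attribute [local irreducible] packP combM mulV mulC encF

theorem mulC_encA (g h : Aut24) : mulC (encA g) (encA h) = encA (g * h) := by
  rw [mulC_eq]
  conv_rhs => rw [encA, encF]
  refine packP_congr fun i hi => ?_
  conv_lhs => rw [show encA h = encF (fun i => h (Pi.single i 1)) from rfl]
  rw [getP_encF _ hi, mulV_encA, dif_pos hi]
  rfl

theorem encA_one : encA 1 = oneC := by
  rw [oneC_eq, encA, encF]
  refine packP_congr fun i hi => ?_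
  rw [dif_pos hi]
  exact toN_single ⟨i, hi⟩

/-- The coding of the automorphism group. -/
noncomputable def bitCoding : Coding Aut24 bitOps where
  enc := encA
  inj := encA_injective
  mul_enc g h := mulC_encA g h
  one_enc := encA_one
  act_one x := by
    show actC oneC x = x
    unfold actC
    cases h : Nat.blt x 16777216
    · rfl
    · have hx : x < 2 ^ 24 := by simpa [Nat.blt_eq] using h
      show mulV oneC x = x
      rw [← toN_ofN hx, ← encA_one, mulV_encA]
      rfl
  act_mul g h x := by
    show actC (encA (g * h)) x = actC (encA g) (actC (encA h) x)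
    cases hb : Nat.blt x 16777216
    · simp only [actC, hb]
    · have hx : x < 2 ^ 24 := by simpa [Nat.blt_eq] using hb
      have hb' : ∀ a, Nat.blt (mulV a x) 16777216 = true := fun a => by
        simpa [Nat.blt_eq] using mulV_lt a x
      simp only [actC, hb, hb']
      rw [← toN_ofN hx, mulV_encA, mulV_encA, mulV_encA]
      rfl

instance finiteAut24 : Finite Aut24 :=
  Finite.of_injective (fun g => (g : V24 → V24)) DFunLike.coe_injective

theorem bitCoding_enc (g : Aut24) : bitCoding.enc g = encA g := rfl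

end Cfsg.Agent.Lib.Compute.Bit24
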