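import Cfsg.Agent.Lib.Compute.Bit24.Coding
import Cfsg.Agent.Lib.Compute.Bit24.Co2Words
import Cfsg.Agent.Lib.Compute.Leech.Action

/-!
# The lattice modulo two and the action of `Co0` on it

Coordinates with respect to a checked basis with dual basis give a surjection of the lattice onto the
24-dimensional binary space; every element of `Co0` acts linearly, and its code is read off from the
images of the basis.
-/

set_option autoImplicit false
set_option maxRecDepth 100000

namespace Cfsg.Agent.Lib.Compute.Bit24

open Cfsg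
open Cfsg.Agent.Lib
open Cfsg.Agent.Lib.Compute.Leech (vecOf latOf pointOK evalWord)

/-- A basis vector, as a coordinate list. -/
def bList (k : ℕ) : List ℤ := basisL.getD k []

/-- A dual basis vector, as a coordinate list. -/
def dList (k : ℕ) : List ℤ := dualL.getD k []

/-- The basis in the lattice. -/
noncomputable def bL (k : Fin 24) : leechLattice := latOf (bList k)

/-- The dual basis in the lattice. -/
noncomputable def dL (k : Fin 24) : leechLattice := latOf (dList k)

theorem basis_ok : ((List.range 24).all fun k => pointOK (bList k) && pointOK (dList k)) = true := by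
  decide +kernel

theorem point_ok (k : Fin 24) : pointOK (bList k) = true ∧ pointOK (dList k) = true := by
  have := List.all_eq_true.1 basis_ok k (List.mem_range.2 k.isLt)
  simpa using this

theorem coe_bL (k : Fin 24) : (bL k : GolayPt → ℤ) = vecOf (bList k) :=
  Compute.Leech.coe_latOf (Bool.and_eq_true_iff.1 (point_ok k).1).2

theorem coe_dL (k : Fin 24) : (dL k : GolayPt → ℤ) = vecOf (dList k) :=
  Compute.Leech.coe_latOf (Bool.and_eq_true_iff.1 (point_ok k).2).2

/-- Inner product of coordinate lists. -/
def dotL (u v : List ℤ) : ℤ := ((List.range 24).map fun i => u.getD i 0 * v.getD i 0).sum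

theorem dotInt_vecOf (u v : List ℤ) : dotInt (vecOf u) (vecOf v) = dotL u v := by
  simp only [dotInt, dotL, vecOf]
  rw [← Equiv.sum_comp Compute.Mathieu.ptEquiv.symm, ← List.sum_toFinset _ List.nodup_range,
    List.toFinset_range, ← Fin.sum_univ_eq_sum_range (fun i => u.getD i 0 * v.getD i 0)]
  exact Finset.sum_congr rfl fun i _ => by simp

theorem dual_check : ∀ j k : Fin 24, dotL (bList k) (dList j) = if k = j then 8 else 0 := by
  decide +kernel

theorem expand_check : ∀ p q : Fin 24,
    (∑ k : Fin 24, (dList k).getD p 0 * (bList k).getD q 0) = if p = q then (8 : ℤ) else 0 := by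
  decide +kernel

/-- The integral coordinates. -/
noncomputable def coef (x : leechLattice) (k : Fin 24) : ℤ :=
  dotInt (x : GolayPt → ℤ) (dL k : GolayPt → ℤ) / 8

theorem eight_coef (x : leechLattice) (k : Fin 24) :
    8 * coef x k = dotInt (x : GolayPt → ℤ) (dL k : GolayPt → ℤ) :=
  Int.mul_ediv_cancel' (Lib.Leech.dotInt_dvd x.2 (dL k).2)

theorem coef_add (x y : leechLattice) (k : Fin 24) : coef (x + y) k = coef x k + coef y k := by
  have h := eight_coef (x + y) k
  have hd : dotInt ((x : GolayPt → ℤ) + (y : GolayPt → ℤ)) (dL k : GolayPt → ℤ) =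
      dotInt (x : GolayPt → ℤ) (dL k : GolayPt → ℤ) + dotInt (y : GolayPt → ℤ) (dL k : GolayPt → ℤ) := by
    simp [dotInt, add_mul, Finset.sum_add_distrib]
  rw [AddSubgroup.coe_add, hd, ← eight_coef, ← eight_coef] at h
  omega

theorem expand (x : leechLattice) : x = ∑ k, coef x k • bL k := by
  refine Subtype.ext (funext fun q => ?_)
  have h8 : ∑ k, 8 * coef x k * (bL k : GolayPt → ℤ) q = 8 * (x : GolayPt → ℤ) q := by
    simp only [eight_coef, coe_bL, coe_dL, dotInt, vecOf, Finset.sum_mul]
    rw [Finset.sum_comm]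
    simp only [mul_assoc, ← Finset.mul_sum]
    simp only [expand_check]
    simp [EmbeddingLike.apply_eq_iff_eq, mul_comm]
  simp only [AddSubgroup.val_finsetSum, Finset.sum_apply, AddSubgroupClass.coe_zsmul, Pi.smul_apply,
    smul_eq_mul]
  simp only [mul_assoc, ← Finset.mul_sum] at h8
  omega

/-- Coordinates modulo two. -/
noncomputable def phi : leechLattice →+ V24 :=
  AddMonoidHom.mk' (fun x k => ((coef x k : ℤ) : ZMod 2)) fun x y => funext fun k => by
    simp [coef_add]

theorem phi_apply (x : leechLattice) (k : Fin 24) : phi x k = ((coef x k : ℤ) : ZMod 2) := rfl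

theorem coef_bL (j k : Fin 24) : coef (bL k) j = if k = j then 1 else 0 := by
  have h := eight_coef (bL k) j
  rw [coe_bL, coe_dL, dotInt_vecOf, dual_check] at h
  by_cases hkj : k = j <;> simp only [hkj, if_true, if_false] at h ⊢ <;> omega

theorem phi_bL (k : Fin 24) : phi (bL k) = Pi.single k 1 := by
  funext j
  rw [phi_apply, coef_bL, Pi.single_apply]
  by_cases h : k = j
  · simp [h]
  · simp [h, Ne.symm h]

theorem phi_surjective : Function.Surjective phi := fun v =>
  ⟨∑ k, ((v k).val : ℤ) • bL k, by
    simp only [map_sum, map_zsmul, phi_bL]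
    conv_rhs => rw [← Finset.univ_sum_single v]
    refine Finset.sum_congr rfl fun k _ => funext fun j => ?_
    by_cases h : j = k
    · subst h
      rw [Pi.smul_apply, Pi.single_eq_same, Pi.single_eq_same, zsmul_one, Int.cast_natCast,
        ZMod.natCast_zmod_val]
    · rw [Pi.smul_apply, Pi.single_eq_of_ne h, Pi.single_eq_of_ne h, smul_zero]⟩

/-- The linear map of an element of `Co0`. -/
noncomputable def linMap (g : Co0) : V24 →ₗ[ZMod 2] V24 :=
  ∑ k : Fin 24, (LinearMap.proj k : V24 →ₗ[ZMod 2] ZMod 2).smulRight (phi (g • bL k))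

theorem linMap_phi (g : Co0) (x : leechLattice) : linMap g (phi x) = phi (g • x) := by
  conv_rhs => rw [expand x, Lib.Leech.smul_sum']
  simp only [linMap, LinearMap.sum_apply, LinearMap.smulRight_apply, LinearMap.proj_apply, map_sum,
    Lib.Leech.smul_zsmul', map_zsmul, phi_apply]
  exact Finset.sum_congr rfl fun k _ => Int.cast_smul_eq_zsmul _ _ _

theorem linMap_mul (g h : Co0) : linMap (g * h) = (linMap g).comp (linMap h) := by
  refine LinearMap.ext fun v => ?_
  obtain ⟨x, rfl⟩ := phi_surjective v
  rw [LinearMap.comp_apply, linMap_phi, linMap_phi, linMap_phi, mul_smul]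

theorem linMap_one : linMap 1 = LinearMap.id := by
  refine LinearMap.ext fun v => ?_
  obtain ⟨x, rfl⟩ := phi_surjective v
  rw [linMap_phi, one_smul, LinearMap.id_apply]

/-- The automorphism of an element of `Co0`. -/
noncomputable def toAut (g : Co0) : Aut24 :=
  LinearEquiv.ofLinearMap (linMap g) (linMap g⁻¹) (by rw [← linMap_mul, mul_inv_cancel, linMap_one])
    (by rw [← linMap_mul, inv_mul_cancel, linMap_one])

theorem toAut_apply (g : Co0) (v : V24) : toAut g v = linMap g v := rfl

/-- `Co0` acts on the lattice modulo two. -/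
noncomputable def toAutHom : Co0 →* Aut24 :=
  MonoidHom.mk' toAut fun g h => LinearEquiv.ext fun v => by
    rw [toAut_apply, linMap_mul, LinearMap.comp_apply, LinearEquiv.mul_apply, toAut_apply, toAut_apply]

theorem toAutHom_bL (g : Co0) (k : Fin 24) : toAutHom g (Pi.single k 1) = phi (g • bL k) := by
  rw [← phi_bL, ← linMap_phi]
  rfl

/-- Code `c` lists the images of the basis under word `w`. -/
noncomputable def codeOK (w : List Compute.Leech.Letter) (c : ℕ) : Bool :=
  w.all Compute.Leech.letterOK && Nat.blt c (2 ^ (24 * 24)) &&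
  (List.range 24).all fun k =>
    (List.range 24).all fun i =>
      decide (dotL (evalWord w (bList k)) (dList i) / 8 % 2 = ((c.testBit (24 * k + i)).toNat : ℤ))

attribute [local irreducible] packP encF evalWord Compute.Leech.letterOK

theorem encA_lt (g : Aut24) : encA g < 2 ^ (24 * 24) := by
  unfold encA encF
  exact packP_lt (w := 24) (n := 24) (encF_bound fun i => g (Pi.single i 1))

theorem exists_of_codeOK {w : List Compute.Leech.Letter} {c : ℕ} (h : codeOK w c = true) :
    ∃ g : Co0, encA (toAutHom g) = c ∧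
      ∀ (v : List ℤ) (y : leechLattice), (y : GolayPt → ℤ) = vecOf v →
        ((g • y : leechLattice) : GolayPt → ℤ) = vecOf (evalWord w v) := by
  simp only [codeOK, Bool.and_eq_true, List.all_eq_true, List.mem_range, decide_eq_true_eq] at h
  obtain ⟨⟨hw, hc⟩, hbits⟩ := h
  obtain ⟨g, hg⟩ := Compute.Leech.exists_of_wordOK (List.all_eq_true.2 hw)
  refine ⟨g, eq_of_getP (encA_lt _) (by rwa [Nat.blt_eq] at hc) fun k hk => ?_, hg⟩
  refine eq_of_bits (getP_lt' _ _) (getP_lt' _ _) fun i hi => ?_
  rw [testBit_getP c k hi, encA, getP_encF _ hk, testBit_toN _ hi, toAutHom_bL, phi_apply]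
  have hb := hbits k hk i hi
  rw [show dotL (evalWord w (bList k)) (dList i) =
    8 * coef (g • bL ⟨k, hk⟩) ⟨i, hi⟩ by
      rw [eight_coef, hg _ _ (coe_bL _), coe_dL, dotInt_vecOf],
    Int.mul_ediv_cancel_left _ (by norm_num : (8 : ℤ) ≠ 0)] at hb
  generalize coef (g • bL ⟨k, hk⟩) ⟨i, hi⟩ = a at hb
  cases hcb : c.testBit (24 * k + i) <;> simp only [hcb, Bool.toNat_false, Bool.toNat_true] at hb
  · simp [(ZMod.intCast_zmod_eq_zero_iff_dvd a 2).2 (by omega)]
  · have ha : ((a : ℤ) : ZMod 2) = 1 := by
      have h2 := Int.emod_emod_of_dvd a (dvd_refl 2)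
      rw [show (1 : ZMod 2) = ((1 : ℤ) : ZMod 2) by simp, ZMod.intCast_eq_intCast_iff']
      omega
    simp [ha]

end Cfsg.Agent.Lib.Compute.Bit24
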