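import Cfsg.Agent.Lib.Compute.Bit24.Co1SchurP2
import Cfsg.Agent.Lib.Compute.Bit24.Co1SchurP3
import Cfsg.Agent.Lib.Compute.Bit24.Co1SchurP5
import Cfsg.Agent.Lib.Compute.Bit24.Co1SchurP7
import Cfsg.Agent.Lib.Compute.Bit24.Co1Cover

/-! The Schur multiplier of `Spor.Co1` is cyclic of order two. -/

set_option autoImplicit false

namespace Cfsg.Agent.Lib.Compute.Bit24

open Cfsg
open Cfsg.Agent.Lib.Compute.Schur

attribute [local irreducible] encA toAutHom slpVal codeOK

theorem schur_Co1 : Cfsg.HasCyclicSchurMultiplier Spor.Co1 2 := by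
  haveI := Lib.Leech.finite_co0
  have hlen : 3 < co1El.length := by decide +kernel
  obtain ⟨a, ⟨g, rfl⟩, hga, -⟩ := pairOK_of_slpCheck co1Slp_ok 3 _ (List.getElem?_eq_getElem hlen)
  have hg : toAutHom g ≠ 1 := by
    intro h
    have hne := co1El_nontrivial
    rw [h, bitCoding_enc, encA_one] at hga
    rw [List.getD_eq_getElem _ _ hlen, ← hga, Nat.beq_refl] at hne
    exact Bool.noConfusion hne
  obtain ⟨e⟩ := exists_equiv_co1 hg
  haveI : Finite toAutHom.range := Finite.of_surjective _ toAutHom.rangeRestrict_surjective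
  haveI : Fintype toAutHom.range := Fintype.ofFinite _
  haveI : Finite V24 := inferInstance
  haveI : Finite Aut24 := Finite.of_injective (fun f : Aut24 => (f : V24 → V24)) DFunLike.coe_injective
  let gs : List Aut24 := (Finset.univ : Finset toAutHom.range).toList.map Subtype.val
  let S := gensList bitCoding gs
  have hS : genGroup bitCoding S = toAutHom.range := by
    rw [genGroup_gensList]
    refine le_antisymm ((Subgroup.closure_le _).2 ?_) fun x hx => Subgroup.subset_closure ?_
    · intro x hx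
      obtain ⟨y, -, rfl⟩ := List.mem_map.1 hx
      exact y.2
    · exact List.mem_map.2 ⟨⟨x, hx⟩, Finset.mem_toList.2 (Finset.mem_univ _), rfl⟩
  let eS : Spor.Co1 ≃* genGroup bitCoding S := e.trans (MulEquiv.subgroupCongr hS.symm)
  refine Cfsg.Agent.Lib.Schur.hasSchurMultiplier_congr ?_ eS.symm (MulEquiv.refl _)
  have hN : Nat.card (genGroup bitCoding S) = 4157776806543360000 := by
    rw [← Nat.card_congr eS.toEquiv]
    exact Lib.Leech.card_quot_center
  have hwv : ∀ w, PairOK bitCoding (genGroup bitCoding S) (slpVal co1El w) :=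
    fun w => PairOK.mono bitCoding hS.ge (pairOK_slpWord co1Slp_ok w)
  obtain ⟨h1, h2, h3⟩ := isStemExtension_co0
  let π : Co0 →* genGroup bitCoding S := eS.toMonoidHom.comp (QuotientGroup.mk' (Subgroup.center Co0))
  have hk : π.ker = Subgroup.center Co0 := by
    rw [← QuotientGroup.ker_mk' (Subgroup.center Co0)]
    ext x
    simp [π, MonoidHom.mem_ker]
  have hπ : Cfsg.IsStemExtension π :=
    ⟨eS.surjective.comp h1, hk.le, hk ▸ (QuotientGroup.ker_mk' (Subgroup.center Co0)) ▸ h3⟩
  have hcard : Nat.card π.ker = 2 := by rw [hk]; exact Lib.Leech.card_center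
  haveI : Fact (Nat.Prime 2) := ⟨Nat.prime_two⟩
  haveI : IsCyclic π.ker := isCyclic_of_prime_card hcard
  refine hasCyclicSchurMultiplier_of_cover_word bitCoding hwv hN
    [co1Schur2, co1Schur3, co1Schur5, co1Schur7] ?_ ?_
    (rest_of_factors [2, 3, 5, 7, 11, 13, 23] (by norm_num) ?_ (by decide +kernel)) π hπ hcard
  · rintro A hA
    simp only [List.mem_cons, List.not_mem_nil, or_false] at hA
    rcases hA with rfl | rfl | rfl | rfl
    · exact ⟨Nat.prime_two, co1Schur2_ok⟩
    · exact ⟨Nat.prime_three, co1Schur3_ok⟩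
    · exact ⟨show Nat.Prime 5 by norm_num, co1Schur5_ok⟩
    · exact ⟨show Nat.Prime 7 by norm_num, co1Schur7_ok⟩
  · rintro A hA
    simp only [List.mem_cons, List.not_mem_nil, or_false] at hA
    rcases hA with rfl | rfl | rfl | rfl <;> decide
  · intro q hq
    fin_cases hq <;> norm_num

end Cfsg.Agent.Lib.Compute.Bit24
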