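import Cfsg.Agent.Lib.Compute.Bit24.Co2Model
import Cfsg.Agent.Lib.Compute.Bit24.Co2SchurP2
import Cfsg.Agent.Lib.Compute.Bit24.Co2SchurP3
import Cfsg.Agent.Lib.Compute.Bit24.Co2SchurP5

/-! The Schur multiplier of `Spor.Co2` is trivial. -/

set_option autoImplicit false

namespace Cfsg.Agent.Lib.Compute.Bit24

open Cfsg
open Cfsg.Agent.Lib.Compute.Schur

theorem schur_Co2 : Cfsg.HasCyclicSchurMultiplier ↥Spor.Co2 1 := by
  obtain ⟨e⟩ := exists_equiv_co2
  refine Cfsg.Agent.Lib.Schur.hasSchurMultiplier_congr ?_ e.symm (MulEquiv.refl _)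
  refine hasCyclicSchurMultiplier_one _ gensOK_co2 co2Chain_ok co2Chain_size
    [co2Schur2, co2Schur3, co2Schur5] ?_ ?_
    (rest_of_factors [2, 3, 5, 7, 11, 23] (by norm_num) ?_ (by decide +kernel))
  · rintro A hA
    simp only [List.mem_cons, List.not_mem_nil, or_false] at hA
    rcases hA with rfl | rfl | rfl
    · exact ⟨Nat.prime_two, co2Schur2_ok⟩
    · exact ⟨Nat.prime_three, co2Schur3_ok⟩
    · exact ⟨show Nat.Prime 5 by norm_num, co2Schur5_ok⟩
  · rintro A hA
    simp only [List.mem_cons, List.not_mem_nil, or_false] at hA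
    rcases hA with rfl | rfl | rfl <;> rfl
  · intro q hq
    fin_cases hq <;> norm_num

end Cfsg.Agent.Lib.Compute.Bit24
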